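import Mathlib
import Cfsg.Agent.Lib.MultC.Cover
import Cfsg.Agent.Lib.LieModel.L34.P.Cert
import Cfsg.Agent.Lib.MultC.Pkg
import Cfsg.Agent.Lib.LieModel.L34.P.Main

/-! a projective permutation representation (generated) -/

set_option autoImplicit false
set_option maxRecDepth 100000
set_option Elab.async false

namespace CfsgLib.MultC.L34.Cov

open CfsgLib.Comput CfsgLib.MultC

open CfsgLib.LieModel.L34.P

noncomputable def a0_2 : Net :=
  Net.cons 1 0x14440541511444
  (Net.cons 2 0x2332010200000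
  (Net.cons 4 0x60e0201010000
  (Net.cons 8 0xd1000a0013
  (Net.cons 16 0x40000f400
  (Net.cons 32 0xc7f400
  (Net.cons 16 0xdf00009813
  (Net.cons 8 0x8001c00e3
  (Net.cons 4 0x20109030c030c
  (Net.cons 2 0x11120131222222
  (Net.cons 1 0x54011114414141
  (Net.nil)))))))))))

noncomputable def a0_1 : Net :=
  Net.cons 1 0x10414041150514
  (Net.cons 2 0x23231321030100
  (Net.cons 4 0xc040802010500
  (Net.cons 8 0x8f00290000
  (Net.cons 16 0x1000006600
  (Net.cons 32 0xd96600
  (Net.cons 16 0xf900004900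
  (Net.cons 8 0x28007f00f0
  (Net.cons 4 0x7010b0f05030c
  (Net.cons 2 0x23111232211122
  (Net.cons 1 0x45444441011441
  (Net.nil)))))))))))

noncomputable def a0_0 : Net :=
  Net.cons 1 0x5411
  (Net.cons 2 0x2321
  (Net.cons 4 0x40c
  (Net.cons 8 65
  (Net.cons 16 15
  (Net.cons 32 0
  (Net.cons 16 0
  (Net.cons 8 19
  (Net.cons 4 0x10d0d
  (Net.cons 2 0x3220
  (Net.cons 1 0x51550
  (Net.nil)))))))))))

noncomputable def r0 : Net :=
  Net.cons 21 0x1422
  (Net.cons 21 0x22ffe400000
  (Net.cons 21 0x116bd0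
  (Net.cons 56 0x9d025d41d31f80000000000000009d025d41d31f80000000000000000
  (Net.cons 112 0x7b7390916d7dc872a3b545704c300000000000000000
  (Net.cons 56 0x7f85be77a22c38800000000000007f85be77a22c38800000000000000000000000000000000000000000000000000000000000000000000000
  (Net.cons 112 0x11ddc7d7829b906e5879a020b7a8800000000000000000000000000000000000000000000000000000000000000000000000
  (Net.nil)))))))

noncomputable def y0 : Net := catN r0 (zipN 63 (a0_0.widen (ones 21 3)) (zipN 224 (a0_1.widen (ones 56 4)) (a0_2.widen (ones 56 4))))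

noncomputable def a2_2 : Net :=
  Net.cons 1 0x1451104100010
  (Net.cons 2 0x20202002100100
  (Net.cons 4 0x10b000d010400
  (Net.cons 8 0x4008c001a
  (Net.cons 16 0x80000b600
  (Net.cons 32 0x3cb600
  (Net.cons 16 0x320000d39a
  (Net.cons 8 0x85005900e2
  (Net.cons 4 0x10901050f0206
  (Net.cons 2 0x3321203120203
  (Net.cons 1 0x54501011110511
  (Net.nil)))))))))))

noncomputable def a2_1 : Net :=
  Net.cons 1 0x10545510100104
  (Net.cons 2 0x10021302200000
  (Net.cons 4 0xf030c000a0200
  (Net.cons 8 0x4200d3004b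
  (Net.cons 16 0xfe00
  (Net.cons 32 0x1fe00
  (Net.cons 16 0x6b00004a4b
  (Net.cons 8 0xd20076003f
  (Net.cons 4 0x2020b0c0e090e
  (Net.cons 2 0x223301310101
  (Net.cons 1 0x10005445001050
  (Net.nil)))))))))))

noncomputable def a2_0 : Net :=
  Net.cons 1 0x15045
  (Net.cons 2 0x2301
  (Net.cons 4 524
  (Net.cons 8 90
  (Net.cons 16 31
  (Net.cons 32 0
  (Net.cons 16 0
  (Net.cons 8 2
  (Net.cons 4 0x10c01
  (Net.cons 2 0x23022
  (Net.cons 1 0x4004
  (Net.nil)))))))))))

noncomputable def r2 : Net :=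
  Net.cons 21 0x198412
  (Net.cons 21 0x331c3600000
  (Net.cons 21 0xa09
  (Net.cons 56 0x111145215b56d580000000000000111145215b56d58000000000000000
  (Net.cons 112 0x3fe909cdbbd3e12efd5bd80ebeb8000000000000000
  (Net.cons 56 0x1566577780e6d2000000000000001566577780e6d2000000000000000000000000000000000000000000000000000000000000000000000000
  (Net.cons 112 0x3d3700e87785792851579ff763ab000000000000000000000000000000000000000000000000000000000000000000000000
  (Net.nil)))))))

noncomputable def y2 : Net := catN r2 (zipN 63 (a2_0.widen (ones 21 3)) (zipN 224 (a2_1.widen (ones 56 4)) (a2_2.widen (ones 56 4))))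

noncomputable def a4_2 : Net :=
  Net.cons 1 0x45104144454114
  (Net.cons 2 0x10131030220020
  (Net.cons 4 0x20c0406070c00
  (Net.cons 8 0x4000c3004a
  (Net.cons 16 0xd700000500
  (Net.cons 32 0xcf8f38
  (Net.cons 16 0x9c0000d821
  (Net.cons 8 0x6500c000b3
  (Net.cons 4 0x506020f0c0b09
  (Net.cons 2 0x31132210031220
  (Net.cons 1 0x40004111145401
  (Net.nil)))))))))))

noncomputable def a4_1 : Net :=
  Net.cons 1 0x15451444014044
  (Net.cons 2 0x10302032313230
  (Net.cons 4 0xa00020c010400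
  (Net.cons 8 0x4500630004
  (Net.cons 16 0x8000006800
  (Net.cons 32 0x73eea2
  (Net.cons 16 0x970000475e
  (Net.cons 8 0xf0009700e4
  (Net.cons 4 0xc06070c040308
  (Net.cons 2 0x2020220203201
  (Net.cons 1 0x14454500011100
  (Net.nil)))))))))))

noncomputable def a4_0 : Net :=
  Net.cons 1 0x40004
  (Net.cons 2 273
  (Net.cons 4 0x504
  (Net.cons 8 176
  (Net.cons 16 31
  (Net.cons 32 0
  (Net.cons 16 0
  (Net.cons 8 4
  (Net.cons 4 0x10b0e
  (Net.cons 2 0x1111
  (Net.cons 1 0x4004
  (Net.nil)))))))))))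

noncomputable def r4 : Net :=
  Net.cons 21 0x116980
  (Net.cons 21 0x36db1000000
  (Net.cons 21 0xa0408
  (Net.cons 56 0x6d748a69bf9916000000000000006d748a69bf99160000000000000000
  (Net.cons 112 0x6c3c65dd23ac440148efb49c35520000000000000000
  (Net.cons 56 0x116d23bd6e38be00000000000000116d23bd6e38be000000000000000000000000000000000000000000000000000000000000000000000000
  (Net.cons 112 0x57821fdefd8a21415024081e01c000000000000000000000000000000000000000000000000000000000000000000000000
  (Net.nil)))))))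

noncomputable def y4 : Net := catN r4 (zipN 63 (a4_0.widen (ones 21 3)) (zipN 224 (a4_1.widen (ones 56 4)) (a4_2.widen (ones 56 4))))

noncomputable def a6_2 : Net :=
  Net.cons 1 0x10010554501000
  (Net.cons 2 0x30031212010200
  (Net.cons 4 0x5000d01000f00
  (Net.cons 8 0xf000590051
  (Net.cons 16 0x40000d000
  (Net.cons 32 0x89f5a7
  (Net.cons 16 0x5b00009c30
  (Net.cons 8 0x2800d200f0
  (Net.cons 4 0x70304030a0400
  (Net.cons 2 0x1222333211320
  (Net.cons 1 0x41151001541115
  (Net.nil)))))))))))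

noncomputable def a6_1 : Net :=
  Net.cons 1 0x11510440100114
  (Net.cons 2 0x20311300003120
  (Net.cons 4 0x6040007070000
  (Net.cons 8 0xab009400a4
  (Net.cons 16 0x4100000000
  (Net.cons 32 0xf31836
  (Net.cons 16 0xd60000779b
  (Net.cons 8 0xd9002d002c
  (Net.cons 4 0x8030e0c0e0f0b
  (Net.cons 2 0x32311211211313
  (Net.cons 1 0x14010011111505
  (Net.nil)))))))))))

noncomputable def a6_0 : Net :=
  Net.cons 1 0x14440
  (Net.cons 2 0x31131
  (Net.cons 4 0x10400
  (Net.cons 8 175
  (Net.cons 16 15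
  (Net.cons 32 0
  (Net.cons 16 0
  (Net.cons 8 23
  (Net.cons 4 0x10703
  (Net.cons 2 0x23233
  (Net.cons 1 0x45514
  (Net.nil)))))))))))

noncomputable def r6 : Net :=
  Net.cons 21 0x3384c
  (Net.cons 21 0x267eb800000
  (Net.cons 21 0x100710
  (Net.cons 56 0xdc22dab33880c800000000000000dc22dab33880c8000000000000000
  (Net.cons 112 0x4a47c4da008dfb4785e9713305f78000000000000000
  (Net.cons 56 0x64018e704b13838000000000000064018e704b1383800000000000000000000000000000000000000000000000000000000000000000000000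
  (Net.cons 112 0x45df4928b7269421dec758fc3517800000000000000000000000000000000000000000000000000000000000000000000000
  (Net.nil)))))))

noncomputable def y6 : Net := catN r6 (zipN 63 (a6_0.widen (ones 21 3)) (zipN 224 (a6_1.widen (ones 56 4)) (a6_2.widen (ones 56 4))))

noncomputable def a8_2 : Net :=
  Net.cons 1 0x55015115044114
  (Net.cons 2 0x102203003010
  (Net.cons 4 0x409030b020900
  (Net.cons 8 0xe00630008
  (Net.cons 16 0x2600008000
  (Net.cons 32 0x69bf16
  (Net.cons 16 0xc20000da81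
  (Net.cons 8 0x520051009d
  (Net.cons 4 0x3080708000a09
  (Net.cons 2 0x1302313233301
  (Net.cons 1 0x55010450111015
  (Net.nil)))))))))))

noncomputable def a8_1 : Net :=
  Net.cons 1 0x50451004004000
  (Net.cons 2 0x31032311210000
  (Net.cons 4 0xc0607030000
  (Net.cons 8 0x2e0083004d
  (Net.cons 16 0x3000000a00
  (Net.cons 32 0x558a6e
  (Net.cons 16 0x8f00005986
  (Net.cons 8 0x7e00e10065
  (Net.cons 4 0x704000a0c0e08
  (Net.cons 2 0x230220332122
  (Net.cons 1 0x1454051551110
  (Net.nil)))))))))))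

noncomputable def a8_0 : Net :=
  Net.cons 1 0x15544
  (Net.cons 2 16
  (Net.cons 4 0xe00
  (Net.cons 8 61
  (Net.cons 16 29
  (Net.cons 32 0
  (Net.cons 16 0
  (Net.cons 8 29
  (Net.cons 4 772
  (Net.cons 2 0x22130
  (Net.cons 1 0x44140
  (Net.nil)))))))))))

noncomputable def r8 : Net :=
  Net.cons 21 0x44c21
  (Net.cons 21 0x1afa4600000
  (Net.cons 21 0x93102
  (Net.cons 56 0x4b680382a39148000000000000004b680382a391480000000000000000
  (Net.cons 112 0x32ba20cd2190c079d2234f8201880000000000000000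
  (Net.cons 56 0x615e5028c9394200000000000000615e5028c93942000000000000000000000000000000000000000000000000000000000000000000000000
  (Net.cons 112 0x496543a07a84065c80412ce9102000000000000000000000000000000000000000000000000000000000000000000000000
  (Net.nil)))))))

noncomputable def y8 : Net := catN r8 (zipN 63 (a8_0.widen (ones 21 3)) (zipN 224 (a8_1.widen (ones 56 4)) (a8_2.widen (ones 56 4))))

noncomputable def a10_2 : Net :=
  Net.cons 1 0x55155044551504
  (Net.cons 2 0x233322010300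
  (Net.cons 4 0xd0b0d07030200
  (Net.cons 8 0x99005a00a8
  (Net.cons 16 0x8900002100
  (Net.cons 32 0x2f29f6
  (Net.cons 16 0x6000038ec
  (Net.cons 8 0xef00710076
  (Net.cons 4 0xb0a0d000a010d
  (Net.cons 2 0x11322122223131
  (Net.cons 1 0x50444401455441
  (Net.nil)))))))))))

noncomputable def a10_1 : Net :=
  Net.cons 1 0x54445045114104
  (Net.cons 2 0x12223312231000
  (Net.cons 4 0xe0c0405000000
  (Net.cons 8 0x40031001b
  (Net.cons 16 0x4300003200
  (Net.cons 32 0x2db7fe
  (Net.cons 16 0x1a00001bcf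
  (Net.cons 8 0x30009f007e
  (Net.cons 4 0x50201090d0408
  (Net.cons 2 0x221203021302
  (Net.cons 1 0x40004041055141
  (Net.nil)))))))))))

noncomputable def a10_0 : Net :=
  Net.cons 1 0x50550
  (Net.cons 2 0x30330
  (Net.cons 4 0x806
  (Net.cons 8 31
  (Net.cons 16 31
  (Net.cons 32 0
  (Net.cons 16 0
  (Net.cons 8 9
  (Net.cons 4 0x1080e
  (Net.cons 2 0x22220
  (Net.cons 1 0x50454
  (Net.nil)))))))))))

noncomputable def r10 : Net :=
  Net.cons 21 0xd0881
  (Net.cons 21 0x1e5b4600000
  (Net.cons 21 0x22522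
  (Net.cons 56 0x3e566b8628f7f4800000000000003e566b8628f7f48000000000000000
  (Net.cons 112 0x9879fd39bf8dc37d1f455b30f288000000000000000
  (Net.cons 56 0x2ab537ccb3d2fb800000000000002ab537ccb3d2fb800000000000000000000000000000000000000000000000000000000000000000000000
  (Net.cons 112 0x2170be70c7af318bc589bc747dca000000000000000000000000000000000000000000000000000000000000000000000000
  (Net.nil)))))))

noncomputable def y10 : Net := catN r10 (zipN 63 (a10_0.widen (ones 21 3)) (zipN 224 (a10_1.widen (ones 56 4)) (a10_2.widen (ones 56 4))))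

noncomputable def a12_2 : Net :=
  Net.cons 1 0x51045154151400
  (Net.cons 2 0x22310112002220
  (Net.cons 4 0xe020f08000800
  (Net.cons 8 0xe400140091
  (Net.cons 16 0x5c00005500
  (Net.cons 32 0x8bf577
  (Net.cons 16 0xe600006151
  (Net.cons 8 0x6007e00bf
  (Net.cons 4 0x60a0c0a020802
  (Net.cons 2 0x11101102102323
  (Net.cons 1 0x55540000555055
  (Net.nil)))))))))))

noncomputable def a12_1 : Net :=
  Net.cons 1 0x51500514044140
  (Net.cons 2 0x23310020202000
  (Net.cons 4 0xc010404010d00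
  (Net.cons 8 0x40001c0028
  (Net.cons 16 0x700001100
  (Net.cons 32 0x3ab7ed
  (Net.cons 16 0xad00004541
  (Net.cons 8 0x12009c0021
  (Net.cons 4 0xa010204070b0c
  (Net.cons 2 0x22210011323002
  (Net.cons 1 0x50401040045411
  (Net.nil)))))))))))

noncomputable def a12_0 : Net :=
  Net.cons 1 4
  (Net.cons 2 1
  (Net.cons 4 14
  (Net.cons 8 30
  (Net.cons 16 30
  (Net.cons 32 0
  (Net.cons 16 0
  (Net.cons 8 16
  (Net.cons 4 271
  (Net.cons 2 0x22221
  (Net.cons 1 0x44440
  (Net.nil)))))))))))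

noncomputable def r12 : Net :=
  Net.cons 21 0x129101
  (Net.cons 21 0x2da78600000
  (Net.cons 21 0x442c2
  (Net.cons 56 0x3497fc7d5c6eb7800000000000003497fc7d5c6eb78000000000000000
  (Net.cons 112 0x168098b2357ef3a21764cf6910440000000000000000
  (Net.cons 56 0x5f498bd77c8fb4800000000000005f498bd77c8fb4800000000000000000000000000000000000000000000000000000000000000000000000
  (Net.cons 112 0xef823575b0d7951b1a8802782cd800000000000000000000000000000000000000000000000000000000000000000000000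
  (Net.nil)))))))

noncomputable def y12 : Net := catN r12 (zipN 63 (a12_0.widen (ones 21 3)) (zipN 224 (a12_1.widen (ones 56 4)) (a12_2.widen (ones 56 4))))

noncomputable def a14_2 : Net :=
  Net.cons 1 0x5554155100010
  (Net.cons 2 0x31032202210110
  (Net.cons 4 0x90c0c02080000
  (Net.cons 8 0x4f00580001
  (Net.cons 16 0x600009100
  (Net.cons 32 0x1bdf04
  (Net.cons 16 0xc60000f034
  (Net.cons 8 0x5e00cb0040
  (Net.cons 4 0x80d090709040d
  (Net.cons 2 0x30212322320001
  (Net.cons 1 0x5554155100010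
  (Net.nil)))))))))))

noncomputable def a14_1 : Net :=
  Net.cons 1 0x444440405000
  (Net.cons 2 0x1220321201000
  (Net.cons 4 0x9000c04020400
  (Net.cons 8 0xe300dc0000
  (Net.cons 16 0x4000009700
  (Net.cons 32 0x7af73c
  (Net.cons 16 0x820000b104
  (Net.cons 8 0xf100f80055
  (Net.cons 4 0xb060a06050f05
  (Net.cons 2 0x21321323311110
  (Net.cons 1 0x40004441405010
  (Net.nil)))))))))))

noncomputable def a14_0 : Net :=
  Net.cons 1 0x44440
  (Net.cons 2 0x10100
  (Net.cons 4 0x400
  (Net.cons 8 68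
  (Net.cons 16 4
  (Net.cons 32 0
  (Net.cons 16 0
  (Net.cons 8 4
  (Net.cons 4 0x10500
  (Net.cons 2 0x32320
  (Net.cons 1 0x44440
  (Net.nil)))))))))))

noncomputable def r14 : Net :=
  Net.cons 56 0x881801004004100000000000000088180100400410000000000000000
  (Net.cons 112 0x776d7fe04460c17fecfff04060800000000000000000
  (Net.cons 56 0x40c020000848010000000000000040c02000084801000000000000000000000000000000000000000000000000000000000000000000000000
  (Net.cons 112 0x3f36f74a68c2417ff6d74a608a40000000000000000000000000000000000000000000000000000000000000000000000000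
  (Net.nil))))

noncomputable def y14 : Net := catN r14 (zipN 63 (a14_0.widen (ones 21 3)) (zipN 224 (a14_1.widen (ones 56 4)) (a14_2.widen (ones 56 4))))

noncomputable def a15_2 : Net :=
  Net.cons 1 0x15510444050510
  (Net.cons 2 0x32100011030100
  (Net.cons 4 0xf0600080c0000
  (Net.cons 8 0xa600c10081
  (Net.cons 16 0x9100006000
  (Net.cons 32 0x5274c3
  (Net.cons 16 0x7000021ae
  (Net.cons 8 0xf600490061
  (Net.cons 4 0xf060801010008
  (Net.cons 2 0x32121011323121
  (Net.cons 1 0x14110445154510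
  (Net.nil)))))))))))

noncomputable def a15_1 : Net :=
  Net.cons 1 0x55401045014440
  (Net.cons 2 0x31313000223000
  (Net.cons 4 0x4010a06000300
  (Net.cons 8 0xd800640012
  (Net.cons 16 0x8d00001000
  (Net.cons 32 0x6318ce
  (Net.cons 16 0x5c00003610
  (Net.cons 8 0x9900ad0013
  (Net.cons 4 0x8010b0f0d0300
  (Net.cons 2 0x30212201333100
  (Net.cons 1 0x41511045014404
  (Net.nil)))))))))))

noncomputable def a15_0 : Net :=
  Net.cons 1 0
  (Net.cons 2 0x1000
  (Net.cons 4 0xa00
  (Net.cons 8 250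
  (Net.cons 16 26
  (Net.cons 32 0
  (Net.cons 16 0
  (Net.cons 8 26
  (Net.cons 4 0xa00
  (Net.cons 2 0x33320
  (Net.cons 1 0
  (Net.nil)))))))))))

noncomputable def r15 : Net :=
  Net.cons 21 31
  (Net.cons 21 0x3c3c3e00000
  (Net.cons 21 0x1e1e00
  (Net.cons 112 0x445d40006a0880445d40006a088000000000000000
  (Net.cons 56 0xa0105c4600398800000000000000a0105c4600398800000000000000000000000000000000000000000000000000000000000000000000000
  (Net.cons 112 0x7dcaedf754111877cbe833341280800000000000000000000000000000000000000000000000000000000000000000000000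
  (Net.nil))))))

noncomputable def y15 : Net := catN r15 (zipN 63 (a15_0.widen (ones 21 3)) (zipN 224 (a15_1.widen (ones 56 4)) (a15_2.widen (ones 56 4))))

noncomputable def a16_2 : Net :=
  Net.cons 1 0x151104410000
  (Net.cons 2 0x13230122301300
  (Net.cons 4 0x5080100020100
  (Net.cons 8 0x18003400d1
  (Net.cons 16 0x800000a000
  (Net.cons 32 0x51aef2
  (Net.cons 16 0x940000d314
  (Net.cons 8 0x1b001e00f1
  (Net.cons 4 0x70a030200030a
  (Net.cons 2 0x13230123301301
  (Net.cons 1 0x151104410000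
  (Net.nil)))))))))))

noncomputable def a16_1 : Net :=
  Net.cons 1 0x44444450040500
  (Net.cons 2 0x23131021323020
  (Net.cons 4 0xe030800060000
  (Net.cons 8 0x60003f0000
  (Net.cons 16 512
  (Net.cons 32 0x15b3d5
  (Net.cons 16 0x2b00006409
  (Net.cons 8 0xd200bf0090
  (Net.cons 4 0xc010a02050202
  (Net.cons 2 0x23131021323020
  (Net.cons 1 0x44444450040500
  (Net.nil)))))))))))

noncomputable def a16_0 : Net :=
  Net.cons 1 0x10100
  (Net.cons 2 0
  (Net.cons 4 2
  (Net.cons 8 221
  (Net.cons 16 31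
  (Net.cons 32 0
  (Net.cons 16 0
  (Net.cons 8 29
  (Net.cons 4 0x10302
  (Net.cons 2 0
  (Net.cons 1 0x54540
  (Net.nil)))))))))))

noncomputable def r16 : Net :=
  Net.cons 56 0x1189e8040f26a4000000000000001189e8040f26a40000000000000000
  (Net.cons 112 0x2eec0ee8c4c2603f65e6eccbe4c40000000000000000
  (Net.cons 56 0x12a462252b16c00000000000000012a462252b16c000000000000000000000000000000000000000000000000000000000000000000000000
  (Net.cons 112 0x65617bbfe8126c644b3d9dbaa300000000000000000000000000000000000000000000000000000000000000000000000000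
  (Net.nil))))

noncomputable def y16 : Net := catN r16 (zipN 63 (a16_0.widen (ones 21 3)) (zipN 224 (a16_1.widen (ones 56 4)) (a16_2.widen (ones 56 4))))

noncomputable def a17_2 : Net :=
  Net.cons 1 0x15000055001140
  (Net.cons 2 0x30200301201000
  (Net.cons 4 0xe010007050000
  (Net.cons 8 0xd500970031
  (Net.cons 16 0x120000d100
  (Net.cons 32 0x63d334
  (Net.cons 16 0x2e0000d8ac
  (Net.cons 8 0xc500e80068
  (Net.cons 4 0xe090301020101
  (Net.cons 2 0x21311310311001
  (Net.cons 1 0x15000055001140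
  (Net.nil)))))))))))

noncomputable def a17_1 : Net :=
  Net.cons 1 0x4115041004440
  (Net.cons 2 0x33113020310200
  (Net.cons 4 0x8020502000800
  (Net.cons 8 0x9c007b0006
  (Net.cons 16 0x8100003a00
  (Net.cons 32 0x48fefb
  (Net.cons 16 0x470000b940
  (Net.cons 8 0xb600fd0086
  (Net.cons 4 0x8020f030a080a
  (Net.cons 2 0x31331200130022
  (Net.cons 1 0x4115041005440
  (Net.nil)))))))))))

noncomputable def a17_0 : Net :=
  Net.cons 1 0
  (Net.cons 2 16
  (Net.cons 4 10
  (Net.cons 8 5
  (Net.cons 16 31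
  (Net.cons 32 0
  (Net.cons 16 0
  (Net.cons 8 5
  (Net.cons 4 0xa0a
  (Net.cons 2 0x33330
  (Net.cons 1 0
  (Net.nil)))))))))))

noncomputable def r17 : Net :=
  Net.cons 21 0x6180
  (Net.cons 21 0xcf30000000
  (Net.cons 21 0x61800
  (Net.cons 56 0x74366244887c1c8000000000000074366244887c1c8000000000000000
  (Net.cons 112 0x71e4951c39b8f805d2f758b1c4e48000000000000000
  (Net.cons 56 0x4a4101c4204291800000000000004a4101c4204291800000000000000000000000000000000000000000000000000000000000000000000000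
  (Net.cons 112 0x64a6ac68173315aee7adac377184000000000000000000000000000000000000000000000000000000000000000000000000
  (Net.nil)))))))

noncomputable def y17 : Net := catN r17 (zipN 63 (a17_0.widen (ones 21 3)) (zipN 224 (a17_1.widen (ones 56 4)) (a17_2.widen (ones 56 4))))

noncomputable def c0 : Net := Net.cons 21 (Nat.shiftLeft (Nat.pred (Nat.shiftLeft 1 21)) 21) (Net.cons 21 (Nat.shiftLeft (Nat.pred (Nat.shiftLeft 1 21)) 0) (Net.nil))

noncomputable def c1 : Net := Net.cons 56 (Nat.lor (Nat.shiftLeft (Nat.pred (Nat.shiftLeft 1 56)) 63) (Nat.shiftLeft (Nat.pred (Nat.shiftLeft 1 56)) 175)) (Net.cons 112 (Nat.shiftLeft (Nat.pred (Nat.shiftLeft 1 56)) 63) (Net.nil))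

noncomputable def c2 : Net := Net.cons 56 (Nat.lor (Nat.shiftLeft (Nat.pred (Nat.shiftLeft 1 56)) 287) (Nat.shiftLeft (Nat.pred (Nat.shiftLeft 1 56)) 399)) (Net.cons 112 (Nat.shiftLeft (Nat.pred (Nat.shiftLeft 1 56)) 287) (Net.nil))

noncomputable def Y : List Net := [y0, y0.rev, y2, y2.rev, y4, y4.rev, y6, y6.rev, y8, y8.rev, y10, y10.rev, y12, y12.rev, y14, y15, y16, y17, c0, c1, c2]

def wit : List Wit := [([12, 17, 11, 17, 12, 17, 11, 17], [12, 11, 17, 17, 12, 11, 17, 17], 0x14141515), ([9, 14, 10, 13, 9, 14, 10, 13], [9, 10, 14, 13, 9, 10, 14, 13], 0x1515), ([2, 14, 1, 13, 2, 14, 1, 13, 2, 14, 1, 13], [2, 1, 14, 13, 2, 1, 14, 13, 2, 1, 14, 13], 21), ([5, 12, 6, 11, 5, 12, 6, 11, 5, 12, 6, 11], [5, 6, 12, 11, 5, 6, 12, 11, 5, 6, 12, 11], 0x141414), ([8, 1, 7, 2, 8, 1, 7, 2, 8, 1, 7, 2, 8, 1, 7, 2], [8, 7, 1, 2, 8, 7, 1, 2, 8, 7, 1, 2, 8, 7, 1, 2], 0x1314141515)]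

theorem Y_ok : allL (Net.ok 511) Y = true := by decide +kernel
theorem cen_0 : allRg (cenChk (stepT 511 9 Y) (idTab 511 9) [18, 19, 20]) 0 21 = true := by decide +kernel
theorem e_l3_0 : eqAllH (stepT 511 9 Y) (idTab 511 9) (maskOf [18, 19, 20]) L3.eqns [0, 0x14141515, 0x14141515, 0x1515, 0x1414, 0, 0x1414, 0x1515, 0x1414, 0x1515, 0x14141515, 0x1515, 0x1414, 0, 0, 0x14141515, 0, 0, 0x131515, 0, 0x1414, 0x131515, 0, 0x1414, 0x131515, 0x1314141515, 0x1414, 0x131515, 0x1314141515, 0x1414, 0x1314141515, 0x1314141515, 0, 0, 0, 0x14141515, 0x14141515, 0, 0x14141515, 0x14141515, 0x14141515, 0x14141515, 0, 0x14141515, 0x14141515, 0, 0, 0, 0, 0, 0, 0, 0x14141515, 0, 0, 0x14141515, 0, 0x14141515, 0x14141515, 0, 0x14141515, 0x14141515, 0x14141515, 0x14141515] = true := by decide +kernel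
theorem e_x3_0 : eqAllH (stepT 511 9 Y) (idTab 511 9) (maskOf [18, 19, 20]) X3.eqns [] = true := by decide +kernel
theorem e_l2_0 : eqAllH (stepT 511 9 Y) (idTab 511 9) (maskOf [18, 19, 20]) L2.eqns [0x13131415, 19, 19, 0, 0, 0x141414151515, 0x13141414151515, 0x1313, 0x14141515, 0, 0, 0] = true := by decide +kernel
theorem e_x2_0 : eqAllH (stepT 511 9 Y) (idTab 511 9) (maskOf [18, 19, 20]) X2.eqns [0, 0, 0, 0, 0] = true := by decide +kernel
theorem e_l1_0 : eqAllH (stepT 511 9 Y) (idTab 511 9) (maskOf [18, 19, 20]) L1.eqns [0x1314151515, 0x1314, 0x13131515, 0x13131414151515, 0x14141515, 0x14141515, 0x14141515, 0, 0x1313, 0x14141515, 0x151515, 0x13141415, 0, 0x1314141415] = true := by decide +kernel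
theorem e_x1_0 : eqAllH (stepT 511 9 Y) (idTab 511 9) (maskOf [18, 19, 20]) X1.eqns [0, 0x1314, 0] = true := by decide +kernel
theorem e_l0_0 : eqAllH (stepT 511 9 Y) (idTab 511 9) (maskOf [18, 19, 20]) L0.eqns [0x1414151515, 0x1415, 0x14151515, 0x131314151515, 0x13131415, 0x1313, 0, 0x1515, 0, 0x131515] = true := by decide +kernel
theorem e_x0_0 : eqAllH (stepT 511 9 Y) (idTab 511 9) (maskOf [18, 19, 20]) X0.eqns [0, 0, 0] = true := by decide +kernel
theorem e_xd_0 : eqAllH (stepT 511 9 Y) (idTab 511 9) (maskOf [18, 19, 20]) XD.eqns [0, 0, 0, 0, 0x141415, 0, 0x131315, 0, 0x131314141515, 0, 0x1313141415, 0, 0, 0x13131415, 0x14141515, 0x14141515] = true := by decide +kernel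
theorem e_mx_0 : eqAllH (stepT 511 9 Y) (idTab 511 9) (maskOf [18, 19, 20]) (L0.maxEqns MX) [0] = true := by decide +kernel
theorem e_nc_0 : eqAllH (stepT 511 9 Y) (idTab 511 9) (maskOf [18, 19, 20]) NC.eqns [0x13131414, 0x13131415, 21] = true := by decide +kernel
theorem wit_ok : witOK 0x3ffff (stepT 21 5 W) (idTab 21 5) (stepT 511 9 Y) (idTab 511 9) wit = true := by decide +kernel
theorem lb_ok : Nat.ble 48 (lbVal (stepW (stepN Y) (wit.map fun w => w.2.2)) 511 [(0, 3, [5]), (63, 4, [1, 4]), (287, 4, [2, 3])] []) = true := by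
  decide +kernel

theorem wmY : WM (permG 511 Y) (stepT 511 9 Y) (idTab 511 9) := WM.perm Y_ok (by norm_num)

theorem cen : Cen (permG 511 Y) (maskOf [18, 19, 20]) :=
  cen_perm (K := 9) (T := 21) (by norm_num) Y_ok rfl (allRg_zero cen_0)

theorem low : Low (cl (permG 21 W) top) 48 := by
  have hm := exists_letters W_ok (inA_top E)
  let g : ℕ → cl (permG 21 W) top := fun m => ⟨_, hm m⟩
  have PM : PModel (cl (permG 21 W) top) 21 (finPt 21) := (pModel_perm 21 (by norm_num)).subgroup _
  have hg : ∀ m, Acts 21 (finPt 21) (nth Net.nil W m) (g m) := acts_permG W_ok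
  have E1 : Eqs g := eqs_of_WM (PM.wm hg (by norm_num))
  have E2 : Eqs (fun m => (g m, cen.quo m)) :=
    { l3 := E1.l3.prod (cen.allHold wmY e_l3_0)
      x3 := E1.x3.prod (cen.allHold wmY e_x3_0)
      l2 := E1.l2.prod (cen.allHold wmY e_l2_0)
      x2 := E1.x2.prod (cen.allHold wmY e_x2_0)
      l1 := E1.l1.prod (cen.allHold wmY e_l1_0)
      x1 := E1.x1.prod (cen.allHold wmY e_x1_0)
      l0 := E1.l0.prod (cen.allHold wmY e_l0_0)
      x0 := E1.x0.prod (cen.allHold wmY e_x0_0)
      xd := E1.xd.prod (cen.allHold wmY e_xd_0)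
      mx := E1.mx.prod (cen.allHold wmY e_mx_0)
      nc := E1.nc.prod (cen.allHold wmY e_nc_0) }
  let _ := fstAction (cl (permG 21 W) top) (cenA (permG 511 Y) (maskOf [18, 19, 20]) ⧸ Subgroup.center _) (Fin 21)
  obtain ⟨ρ, hρ⟩ := exists_hom_of_card (cl_lift hm)
    ((card (sm_prod _ (PM.sm hg)) E2).trans card_perm.symm)
  exact low_of_perm PM hg (by norm_num) (by norm_num) (by norm_num) Y_ok cen ρ
    (fun m h => hρ _ (inA_top E2 m h)) wit_ok lb_ok

end CfsgLib.MultC.L34.Cov
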