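import Mathlib
import Cfsg.Agent.Lib.MultC.L34.Base

/-! multiplier certificate for the prime 2 (generated) -/

set_option autoImplicit false
set_option maxRecDepth 100000
set_option Elab.async false

namespace CfsgLib.MultC.L34.P2

open CfsgLib.Comput CfsgLib.MultC

noncomputable def x0 : Net :=
  Net.cons 1 0x51500
  (Net.cons 2 0x32300
  (Net.cons 4 0x10f06
  (Net.cons 8 103
  (Net.cons 16 7
  (Net.cons 8 31
  (Net.cons 4 0x10f06
  (Net.cons 2 0x2300
  (Net.cons 1 0x5500
  (Net.nil)))))))))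

noncomputable def x1 : Net :=
  Net.cons 1 0x1150
  (Net.cons 2 512
  (Net.cons 4 0x10800
  (Net.cons 8 144
  (Net.cons 16 16
  (Net.cons 8 16
  (Net.cons 4 0x10a02
  (Net.cons 2 784
  (Net.cons 1 0x5154
  (Net.nil)))))))))

noncomputable def x2 : Net :=
  Net.cons 1 0x45100
  (Net.cons 2 0x1000
  (Net.cons 8 1
  (Net.cons 16 31
  (Net.cons 8 1
  (Net.cons 4 0xc00
  (Net.cons 2 0x22002
  (Net.cons 1 0x40500
  (Net.nil))))))))

noncomputable def x3 : Net :=
  Net.cons 1 0x40010
  (Net.cons 2 0x10000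
  (Net.cons 4 0x500
  (Net.cons 8 4
  (Net.cons 16 4
  (Net.cons 8 20
  (Net.cons 4 0x10502
  (Net.cons 2 0x32000
  (Net.cons 1 0x40054
  (Net.nil)))))))))

noncomputable def x4 : Net :=
  Net.cons 1 0x4110
  (Net.cons 2 0x10000
  (Net.cons 4 0x400
  (Net.cons 8 4
  (Net.cons 16 4
  (Net.cons 8 4
  (Net.cons 4 0x10502
  (Net.cons 2 0x32000
  (Net.cons 1 0x4514
  (Net.nil)))))))))

noncomputable def x5 : Net :=
  Net.cons 1 0x15104
  (Net.cons 2 0x2010
  (Net.cons 4 512
  (Net.cons 8 2
  (Net.cons 16 2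
  (Net.cons 8 2
  (Net.cons 4 0x10a04
  (Net.cons 2 0x3112
  (Net.cons 1 0x55104
  (Net.nil)))))))))

noncomputable def x6 : Net :=
  Net.cons 1 0x50440
  (Net.cons 2 0x31101
  (Net.cons 4 0x10400
  (Net.cons 8 79
  (Net.cons 16 15
  (Net.cons 8 15
  (Net.cons 4 0x10701
  (Net.cons 2 0x3101
  (Net.cons 1 0x1404
  (Net.nil)))))))))

noncomputable def x7 : Net :=
  Net.cons 1 0x55504
  (Net.cons 2 0x32210
  (Net.cons 4 0xb08
  (Net.cons 8 32
  (Net.cons 16 8
  (Net.cons 8 24
  (Net.cons 4 0x1000c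
  (Net.cons 2 0x23330
  (Net.cons 1 0x50440
  (Net.nil)))))))))

noncomputable def x8 : Net :=
  Net.cons 1 0x4510
  (Net.cons 2 0x2010
  (Net.cons 4 0x10400
  (Net.cons 8 52
  (Net.cons 16 28
  (Net.cons 8 24
  (Net.cons 4 1
  (Net.cons 2 0x20100
  (Net.cons 1 0x44114
  (Net.nil)))))))))

noncomputable def X : List Net := [x0, x1, x2, x3, x4, x5, x6, x7, x8]

def D : Dat := ⟨1, 6, 1,
  0x820820800410410028218014100c80,
  14, 0x810101810202810204081,
  0x855c20a32838430eb5a24,
  0x22221111000000, 8⟩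

def R0 : List (ℕ × ℕ × ℕ × List ℕ) := [(8, 3, 1, [118]),
  (32, 5, 1, [262]),
  (32, 5, 3, [294]),
  (4, 2, 1, [70, 199, 231]),
  (4, 1, 1, [66, 177, 225]),
  (8, 3, 0, [102, 215, 231]),
  (8, 0, 0, [98, 161, 225]),
  (8, 3, 2, [134, 295, 327]),
  (8, 2, 2, [130, 273, 321]),
  (16, 3, 2, [305]),
  (2, 1, 0, [22, 183, 231, 263, 311, 327]),
  (2, 0, 0, [18, 161, 225, 241, 305, 321]),
  (8, 2, 0, [199, 241, 311]),
  (4, 1, 0, [161, 193, 273, 305])]
def R1 : List (ℕ × List ℕ × List ℕ × List ℕ) := [(0, [5, 5], [], [225, 327, 418]),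
  (0, [1, 1], [], [39, 145, 289, 321, 354]),
  (0, [4, 4], [], [305, 321, 402]),
  (0, [0, 0], [], [7, 81, 273, 321, 338]),
  (0, [3, 3], [], [33, 113, 177, 209, 225, 257, 289, 305, 321, 386]),
  (0, [2, 2], [], [1, 49, 161, 193, 225, 241, 273, 305, 321, 370]),
  (0, [0, 1], [5, 4, 1, 0], [23, 129, 231, 273, 295, 311, 407, 423]),
  (0, [0, 3], [4, 3, 0], [71, 103, 129, 193, 215, 231, 263, 273, 295, 407]),
  (1, [7, 7], [], [151, 321, 450]),
  (1, [9, 9], [], [145, 289, 482]),
  (1, [6, 6], [], [39, 145, 209, 225, 289, 305, 321, 434]),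
  (1, [6, 7], [7, 6], [119, 289, 305]),
  (1, [8, 8], [], [33, 177, 257, 305, 321, 466]),
  (2, [10, 10], [], [7, 321, 498]),
  (2, [11, 11], [], [87, 225, 305, 321, 514]),
  (2, [13, 13], [], [1, 241, 546]),
  (2, [10, 11], [11, 10], [55, 311]),
  (2, [12, 12], [], [1, 49, 81, 161, 193, 530])]

noncomputable def A : LA := ⟨16, [[129, 369, 403, 417, 502, 518, 534], [129, 385, 403, 417, 502, 518, 534], [97, 129, 337, 369, 403, 450, 482, 498, 518, 534, 548], [97, 129, 353, 385, 403, 450, 482, 498, 518, 534, 548], [97, 129, 401, 450, 482, 500, 548], [97, 402, 417, 450, 482, 518, 534, 546]],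
  [[129, 403, 500, 548], [97, 129, 417, 498, 518, 534, 548]], [4, 4],
  Dat.sps R0 ++ (Dat.sps R1),
  [0x700000000007004022100370700000026,
  0x7373640462014044076144411340000044,
  0x7000000704045537236070000066,
  0x500400000004004000400140400000000,
  0x4424600055100007041337764077300004,
  0x6506640462007070040544522740000006,
  0x55000000000000005000000003,
  0x5004000405404444245040000002,
  0x2272140451000007073544351740000034,
  0x6606647462000700763173457030000046,
  0x6606640404000005036444124740000022,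
  0x6606640404000006011444574547300064,
  0x6606640404000002015444534140000064,
  0x6606640404000005036444124050000022,
  0x6606640462000003016444322040000060,
  0x6606640404000002015344434140000064,
  0x6606640404000005076715024341500022,
  0x1000000770000000002,
  0x1000000701000000002,
  0x700000000000,
  0x4424600066000001022600366200000026],
  [0x440000060000002020000500, 0x64000000004602660022466251]⟩

def lv : LB := [(1, 1, [6, 5, 3, 1]), (5, 1, [0x405, 0x205])]

theorem r0 : D.consAll 12 R0 = true := by decide +kernel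
theorem r1 : D.fusAll 12 R1 = true := by decide +kernel
theorem xw : wordsOK 21 5 U X [[0x60c0b0f], [0x605050c], [0x70b10], [0x605050c0a0910], [0x60505090a0f], [0x50805090a10], [16], [0xb0f], [0x102]] = true := by decide +kernel
theorem c1_0 : allRg (D.rowChk (stepT 21 5 X) (idTab 21 5)) 0 6 = true := by decide +kernel
theorem c2_0 : allRg (D.fusChk (stepT 21 5 X) (idTab 21 5)) 0 14 = true := by decide +kernel
theorem c3 : lbOK 21 X 6 (2 ^ 6) lv = true := by decide +kernel
theorem c4 : D.basicOK A = true := by decide +kernel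
theorem c5_0 : allRg (D.rowOK A) 0 6 = true := by decide +kernel

theorem pb {G : Type*} {Ω : Type*} [Group G] [MulAction G Ω] {pt : ℕ → Ω} (M : PModel G 21 pt)
    (h : AllReal G 21 pt V0) (hG : Nat.card G = 20160) : PBound G 2 [4, 4] :=
  M.pBound (W := X) (k := 5) (D := D) (A := A) ((realU h).words (by norm_num) xw) (by norm_num) (by norm_num) rfl 2 rfl
    (by decide) rfl (by decide) (allRg_zero c1_0) (allRg_zero c2_0) c3 hG
    (by decide +kernel) ((D.allGood_cons 12 R0 (by norm_num) r0).append (D.allGood_fus 12 R1 (by norm_num) r1)) c4 (allRg_zero c5_0)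

end CfsgLib.MultC.L34.P2
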